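import Cfsg.Agent.Depth.S.GHK

/-!
# Depth (S5768): a kernel evaluation of `φ(d)` on squarefree `d < 367²`, and the tables for `GH3`
-/

set_option autoImplicit false

namespace Cfsg.Agent.Depth.S

open Finset

namespace GH

theorem cond_beq {α : Type} (a b : ℕ) (x y : α) : cond (Nat.beq a b) x y = if a = b then x else y := by
  split_ifs with h
  · rw [h, Nat.beq_refl, cond_true]
  · have h1 : Nat.beq a b = false := by
      rw [← Bool.not_eq_true]
      exact fun h2 => h (Nat.eq_of_beq_eq_true h2)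
    rw [h1, cond_false]

theorem cond_ble {α : Type} (a b : ℕ) (x y : α) : cond (Nat.ble a b) x y = if a ≤ b then x else y := by
  split_ifs with h
  · rw [Nat.ble_eq_true_of_le h, cond_true]
  · have h1 : Nat.ble a b = false := by
      rw [← Bool.not_eq_true]
      exact fun h2 => h (Nat.le_of_ble_eq_true h2)
    rw [h1, cond_false]

/-- the product of the primes below `367` -/
def P366 : ℕ :=
  33145029365917644537041586451002838777754047982048976093256545773949681076083753038263261851007891975336318712022358509317861766127318306017798990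

/-- the primes from `7` to `359` -/
def L366 : List ℕ := [7, 11, 13, 17, 19, 23, 29, 31, 37, 41, 43, 47, 53, 59, 61, 67, 71, 73, 79, 83, 89, 97, 101, 103,
  107, 109, 113, 127, 131, 137, 139, 149, 151, 157, 163, 167, 173, 179, 181, 191, 193, 197, 199, 211, 223, 227, 229,
  233, 239, 241, 251, 257, 263, 269, 271, 277, 281, 283, 293, 307, 311, 313, 317, 331, 337, 347, 349, 353, 359]

theorem L366_prime : ∀ p ∈ L366, p.Prime := by decide +kernel

theorem gcd_P366 : ∀ q < 367, 2 ≤ q → Nat.gcd q P366 ≠ 1 := by decide +kernel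

theorem prime_of_gcd {m : ℕ} (h1 : m ≠ 1) (hm : m < 134689) (hg : Nat.gcd m P366 = 1) : m.Prime := by
  by_contra hp
  have h0 : 0 < m := by
    rcases m.eq_zero_or_pos with rfl | h
    · exact absurd hg (by decide +kernel)
    · exact h
  have h2 := Nat.minFac_sq_le_self h0 hp
  have h3 := Nat.minFac_prime h1
  have h4 : m.minFac < 367 := by
    by_contra h4
    have h5 := Nat.pow_le_pow_left (not_lt.1 h4) 2
    omega
  exact gcd_P366 _ h4 h3.two_le (Nat.Coprime.coprime_dvd_left (Nat.minFac_dvd m) hg)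

/-- the last factor -/
def lastF (m acc : ℕ) : ℕ := cond (Nat.beq m 1) acc (Nat.mul acc (Nat.sub m 1))

theorem lastF_spec {m acc : ℕ} (hm : m < 134689) (hg : Nat.gcd m P366 = 1) (ha : 0 < acc) :
    0 < lastF m acc ∧ lastF m acc ≤ acc * m.totient := by
  unfold lastF
  rw [cond_beq]
  split_ifs with h
  · rw [h]
    exact ⟨ha, by simp⟩
  · have hp := prime_of_gcd h hm hg
    rw [Nat.totient_prime hp]
    exact ⟨Nat.mul_pos ha (Nat.sub_pos_of_lt hp.one_lt), le_rfl⟩

/-- trial division -/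
noncomputable def ph (L : List ℕ) : ℕ → ℕ → ℕ :=
  List.rec (fun _ acc => acc) (fun p _ ih m acc =>
    cond (Nat.beq (Nat.mod m p) 0)
      (cond (Nat.beq (Nat.mod (Nat.div m p) p) 0) 0
        (cond (Nat.beq (Nat.gcd (Nat.div m p) P366) 1) (lastF (Nat.div m p) (Nat.mul acc (Nat.sub p 1)))
          (ih (Nat.div m p) (Nat.mul acc (Nat.sub p 1)))))
      (ih m acc)) L

theorem ph_cons (p : ℕ) (L : List ℕ) (m acc : ℕ) : ph (p :: L) m acc =
    if m % p = 0 then (if (m / p) % p = 0 then 0 else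
      if Nat.gcd (m / p) P366 = 1 then lastF (m / p) (acc * (p - 1)) else ph L (m / p) (acc * (p - 1)))
    else ph L m acc := by
  rw [← cond_beq, ← cond_beq, ← cond_beq]
  rfl

theorem ph_spec (L : List ℕ) (hL : ∀ p ∈ L, p.Prime) : ∀ m acc, Squarefree m → m < 134689 → 0 < acc →
    0 < ph L m acc ∧ ph L m acc ≤ acc * m.totient := by
  induction L with
  | nil =>
    intro m acc hs _ ha
    exact ⟨ha, Nat.le_mul_of_pos_right _ (Nat.totient_pos.2 (Nat.pos_of_ne_zero hs.ne_zero))⟩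
  | cons p L ih =>
    intro m acc hs hm ha
    have hp := hL p List.mem_cons_self
    have ih' := ih fun q hq => hL q (List.mem_cons_of_mem _ hq)
    rw [ph_cons]
    split_ifs with h1 h2 h3
    · obtain ⟨k, rfl⟩ := Nat.dvd_of_mod_eq_zero h1
      rw [Nat.mul_div_cancel_left _ hp.pos] at h2
      exact absurd (Nat.isUnit_iff.1 (hs p (Nat.mul_dvd_mul_left p (Nat.dvd_of_mod_eq_zero h2)))) hp.ne_one
    · obtain ⟨k, rfl⟩ := Nat.dvd_of_mod_eq_zero h1
      rw [Nat.mul_div_cancel_left _ hp.pos] at h3 ⊢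
      have h4 := lastF_spec (lt_of_le_of_lt (Nat.le_mul_of_pos_left _ hp.pos) hm) h3
        (Nat.mul_pos ha (Nat.sub_pos_of_lt hp.one_lt))
      refine ⟨h4.1, h4.2.trans ?_⟩
      rw [mul_assoc, ← Nat.totient_prime hp]
      exact Nat.mul_le_mul_left _ (Nat.totient_super_multiplicative p k)
    · obtain ⟨k, rfl⟩ := Nat.dvd_of_mod_eq_zero h1
      rw [Nat.mul_div_cancel_left _ hp.pos]
      have h4 := ih' k (acc * (p - 1)) (Nat.squarefree_mul_iff.1 hs).2.2
        (lt_of_le_of_lt (Nat.le_mul_of_pos_left _ hp.pos) hm) (Nat.mul_pos ha (Nat.sub_pos_of_lt hp.one_lt))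
      refine ⟨h4.1, h4.2.trans ?_⟩
      rw [mul_assoc, ← Nat.totient_prime hp]
      exact Nat.mul_le_mul_left _ (Nat.totient_super_multiplicative p k)
    · exact ih' m acc hs hm ha

/-- `φ(d)` for squarefree `d` coprime to `30` -/
noncomputable def phT (d : ℕ) : ℕ := cond (Nat.beq (Nat.gcd d P366) 1) (lastF d 1) (ph L366 d 1)

theorem phT_spec {d : ℕ} (hs : Squarefree d) (hd : d < 134689) : 0 < phT d ∧ phT d ≤ d.totient := by
  unfold phT
  rw [cond_beq]
  split_ifs with h
  · simpa using lastF_spec hd h Nat.one_pos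
  · simpa using ph_spec L366 L366_prime d 1 hs hd Nat.one_pos

/-- `10¹²/f` rounded up -/
def dv (f : ℕ) : ℕ := Nat.div (Nat.add 999999999999 f) f

theorem dv_spec {f : ℕ} (hf : 0 < f) : (1 : ℝ) / f ≤ (dv f : ℝ) / 1000000000000 := by
  have h1 : 1000000000000 ≤ f * dv f := by
    have h2 : dv f = (999999999999 + f) / f := rfl
    have h3 := Nat.lt_mul_div_succ (999999999999 + f) hf
    rw [mul_add] at h3
    rw [h2]
    omega
  have h4 : (1000000000000 : ℝ) ≤ f * dv f := by exact_mod_cast h1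
  rw [div_le_div_iff₀ (by exact_mod_cast hf) (by norm_num)]
  linarith

/-- upper bound for `10¹²/φ(d)` on the bin `j` -/
noncomputable def u3 (j d : ℕ) : ℕ :=
  cond (Nat.beq (Nat.gcd d 30) 1)
    (cond (Nat.ble (Nat.pow 2 j) (Nat.pow d 4)) (cond (Nat.ble (Nat.pow 2 (Nat.add j 1)) (Nat.pow d 4)) 0
      (dv (phT d))) 0) 0

theorem u3_spec {j d : ℕ} (hs : Squarefree d) (hd : d < 134689) (hc : d.Coprime 30) (h1 : 2 ^ j ≤ d ^ 4)
    (h2 : d ^ 4 < 2 ^ (j + 1)) : (1 : ℝ) / d.totient ≤ (u3 j d : ℝ) / 1000000000000 := by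
  have h : u3 j d = dv (phT d) := by
    unfold u3
    rw [cond_beq, cond_ble, cond_ble, if_pos hc.gcd_eq_one, if_pos (show Nat.pow 2 j ≤ Nat.pow d 4 from h1),
      if_neg (show ¬ Nat.pow 2 (Nat.add j 1) ≤ Nat.pow d 4 from not_le.2 h2)]
  obtain ⟨h3, h4⟩ := phT_spec hs hd
  rw [h]
  exact le_trans (one_div_le_one_div_of_le (by exact_mod_cast h3) (by exact_mod_cast h4)) (dv_spec h3)

/-- the test for the bin `j` -/
noncomputable def ck3 (j : ℕ) : Bool :=
  Nat.ble (bsS (u3 j) (Nat.div j 4) (Nat.pow 2 (Nat.div j 4))) (Nat.mul 100000000 (Wt j))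

theorem run3a : ∀ j < 56, ck3 j = true := by decide +kernel
theorem run3b : ∀ j < 4, ck3 (56 + j) = true := by decide +kernel
theorem run3c : ∀ j < 4, ck3 (60 + j) = true := by decide +kernel
theorem run3d : ck3 64 = true := by decide +kernel
theorem run3e : ck3 65 = true := by decide +kernel
theorem run3f : ck3 66 = true := by decide +kernel
theorem run3g : ck3 67 = true := by decide +kernel

theorem run3 {j : ℕ} (hj : j < 68) : ck3 j = true := by
  by_cases h1 : j < 56
  · exact run3a j h1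
  by_cases h2 : j < 60
  · have := run3b (j - 56) (by omega)
    rwa [show 56 + (j - 56) = j by omega] at this
  by_cases h3 : j < 64
  · have := run3c (j - 60) (by omega)
    rwa [show 60 + (j - 60) = j by omega] at this
  have h4 : j = 64 ∨ j = 65 ∨ j = 66 ∨ j = 67 := by omega
  rcases h4 with rfl | rfl | rfl | rfl
  · exact run3d
  · exact run3e
  · exact run3f
  · exact run3g

theorem table3 {j : ℕ} (hj : j < 68) : Wbin j ≤ (Wt j : ℝ) / 10000 := by
  have h1 : bsS (u3 j) (j / 4) (2 ^ (j / 4)) ≤ 100000000 * Wt j := Nat.le_of_ble_eq_true (run3 hj)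
  rw [bsS_eq] at h1
  have h2 : Wbin j ≤ ∑ d ∈ Ico (2 ^ (j / 4)) (2 ^ (j / 4) + 2 ^ (j / 4)), (u3 j d : ℝ) / 1000000000000 := by
    unfold Wbin
    have key : ∀ d ∈ (Icc 1 (2 ^ (j / 4 + 1))).filter
        (fun d => Squarefree d ∧ d.Coprime 60 ∧ Nat.log 2 (d ^ 4) = j),
        2 ^ j ≤ d ^ 4 ∧ d ^ 4 < 2 ^ (j + 1) ∧ 2 ^ (j / 4) ≤ d ∧ d < 2 ^ (j / 4 + 1) := by
      intro d hd
      simp only [mem_filter, mem_Icc] at hd
      have h3 : 2 ^ j ≤ d ^ 4 := hd.2.2.2 ▸ Nat.pow_log_le_self 2 (pow_ne_zero _ (by omega))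
      have h4 : d ^ 4 < 2 ^ (j + 1) := hd.2.2.2 ▸ Nat.lt_pow_succ_log_self (by norm_num) _
      refine ⟨h3, h4, ?_, ?_⟩
      · refine (Nat.pow_le_pow_iff_left (n := 4) (by norm_num)).1 (le_trans ?_ h3)
        rw [← pow_mul]
        exact Nat.pow_le_pow_right (by norm_num) (by omega)
      · refine (Nat.pow_lt_pow_iff_left (n := 4) (by norm_num)).1 (lt_of_lt_of_le h4 ?_)
        rw [← pow_mul]
        exact Nat.pow_le_pow_right (by norm_num) (by omega)
    refine sum_le_of_inj _ _ id _ _ (fun _ _ _ _ h => h) (fun d hd => ?_) (fun d hd => ?_)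
      fun _ _ => div_nonneg (Nat.cast_nonneg _) (by norm_num)
    · obtain ⟨-, -, h5, h6⟩ := key d hd
      rw [mem_Ico, id, ← two_mul, ← pow_succ']
      exact ⟨h5, h6⟩
    · obtain ⟨h3, h4, -, h6⟩ := key d hd
      simp only [mem_filter] at hd
      refine u3_spec hd.2.1 (lt_of_lt_of_le h6 ?_) (Nat.Coprime.coprime_dvd_right (by norm_num) hd.2.2.1) h3 h4
      exact (Nat.pow_le_pow_right (by norm_num) (show j / 4 + 1 ≤ 17 by omega)).trans (by norm_num)
  rw [← sum_div, ← Nat.cast_sum] at h2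
  generalize ∑ d ∈ Ico (2 ^ (j / 4)) (2 ^ (j / 4) + 2 ^ (j / 4)), u3 j d = X at h1 h2
  generalize Wt j = w at h1 ⊢
  have h3 : (X : ℝ) ≤ 100000000 * w := by exact_mod_cast h1
  linarith

end GH

end Cfsg.Agent.Depth.S
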